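import Cfsg.Agent.OddHalf.D3.ThreeMain
set_option linter.all false

/-!
# ODD D3 (iii), n ≥ 3: there are no adjacent classes (text of helper133, bb ODD 7641, (5))
-/

set_option autoImplicit false

namespace Cfsg.Agent.OddHalf.D3.ThreeEnd

open Cfsg.Agent.OddHalf.D3.ThreeDefs Cfsg.Agent.OddHalf.D3.ThreeFam Cfsg.Agent.OddHalf.D3.ThreeMain
open scoped commutatorElement

universe u

variable {G : Type u} [Group G]

theorem mem_normalizer_of_cj {P : Subgroup G} {w : G} (h : cj w P = P) : w ∈ Subgroup.normalizer (P : Set G) := by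
  rw [Subgroup.mem_normalizer_iff]
  intro x
  have h1 : cj w⁻¹ P = P := cj_inv_eq h
  have h2 : w * x * w⁻¹ ∈ P ↔ x ∈ cj w⁻¹ P := by rw [mem_cj, inv_inv]
  rw [h2, h1]

theorem cj_of_mem_normalizer {P : Subgroup G} {w : G} (h : w ∈ Subgroup.normalizer (P : Set G)) : cj w P = P := by
  have hk' := Subgroup.mem_normalizer_iff.mp (inv_mem h)
  ext x
  rw [mem_cj]
  have := hk' x
  rw [inv_inv] at this
  exact this.symm

theorem card_ker_mul_range {H : Type*} [Group H] {K : Type*} [Group K] (f : H →* K) :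
    Nat.card H = Nat.card f.range * Nat.card f.ker := by
  rw [Subgroup.card_eq_card_quotient_mul_card_subgroup f.ker]
  congr 1
  exact Nat.card_congr (QuotientGroup.quotientKerEquivRange f).toEquiv

/-- a subgroup without involutions has odd order -/
theorem odd_of_no_inv {H : Type*} [Group H] [Finite H] (h : ∀ x : H, x * x = 1 → x = 1) : ¬ 2 ∣ Nat.card H := by
  intro h2
  haveI : Fact (Nat.Prime 2) := ⟨Nat.prime_two⟩
  obtain ⟨x, hx⟩ := exists_prime_orderOf_dvd_card' 2 h2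
  have h1 : x * x = 1 := by
    have := pow_orderOf_eq_one x
    rw [hx, pow_two] at this
    exact this
  have h3 := h x h1
  rw [h3, orderOf_one] at hx
  omega

/-- **Lifting elementary subgroups** modulo a normal subgroup meeting `X` in odd order. -/
theorem lift_er [Finite G] {V N X : Subgroup G} (hVsq : ∀ v ∈ V, v * v = 1)
    (hXN : ∀ x ∈ X, cj x N = N) (hV : ∀ v ∈ V, ∃ n ∈ N, ∃ x ∈ X, v = n * x)
    (hNX : ∀ c, c ∈ N → c ∈ X → c * c = 1 → c = 1) : Nat.card V ≤ er N * er X := by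
  classical
  haveI : Fact (Nat.Prime 2) := ⟨Nat.prime_two⟩
  have hXK : X ≤ Subgroup.normalizer (N : Set G) := fun x hx => mem_normalizer_of_cj (hXN x hx)
  have hNK : N ≤ Subgroup.normalizer (N : Set G) := Subgroup.le_normalizer
  have hVK : V ≤ Subgroup.normalizer (N : Set G) := by
    intro v hv
    obtain ⟨n, hn, x, hx, rfl⟩ := hV v hv
    exact mul_mem (hNK hn) (hXK hx)
  let π := QuotientGroup.mk' (N.subgroupOf (Subgroup.normalizer (N : Set G)))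
  let f : X →* _ := π.comp (Subgroup.inclusion hXK)
  let g : V →* _ := π.comp (Subgroup.inclusion hVK)
  have hfk : ∀ x : X, f x = 1 ↔ (x : G) ∈ N := by
    intro x
    change QuotientGroup.mk' _ (Subgroup.inclusion hXK x) = 1 ↔ _
    rw [QuotientGroup.mk'_apply, QuotientGroup.eq_one_iff, Subgroup.mem_subgroupOf]
    rfl
  have hgk : ∀ v : V, g v = 1 ↔ (v : G) ∈ N := by
    intro v
    change QuotientGroup.mk' _ (Subgroup.inclusion hVK v) = 1 ↔ _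
    rw [QuotientGroup.mk'_apply, QuotientGroup.eq_one_iff, Subgroup.mem_subgroupOf]
    rfl
  have hgf : g.range ≤ f.range := by
    rintro _ ⟨v, rfl⟩
    obtain ⟨n, hn, x, hx, hvx⟩ := hV v v.2
    refine ⟨⟨x, hx⟩, ?_⟩
    change QuotientGroup.mk' _ (Subgroup.inclusion hXK ⟨x, hx⟩) = QuotientGroup.mk' _ (Subgroup.inclusion hVK v)
    have e : Subgroup.inclusion hVK v = ⟨n, hNK hn⟩ * Subgroup.inclusion hXK ⟨x, hx⟩ := Subtype.ext hvx
    rw [e, map_mul]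
    have : QuotientGroup.mk' (N.subgroupOf (Subgroup.normalizer (N : Set G))) ⟨n, hNK hn⟩ = 1 := by
      rw [QuotientGroup.mk'_apply, QuotientGroup.eq_one_iff, Subgroup.mem_subgroupOf]
      exact hn
    rw [this, one_mul]
  -- `g.ker`
  have hker : Nat.card g.ker ≤ er N := by
    have h1 : Nat.card (g.ker.map V.subtype) = Nat.card g.ker :=
      Nat.card_congr (Subgroup.equivMapOfInjective g.ker V.subtype V.subtype_injective).toEquiv.symm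
    rw [← h1]
    refine le_er ?_ ?_
    · rintro _ ⟨v, hv, rfl⟩
      exact (hgk v).mp hv
    · rintro _ ⟨v, hv, rfl⟩
      exact hVsq v v.2
  -- `g.range`
  have hran : Nat.card g.range ≤ er X := by
    let Y : Subgroup X := g.range.comap f
    have hgr2 : ∀ y ∈ g.range, y * y = 1 := by
      rintro _ ⟨v, rfl⟩
      rw [← map_mul]
      have : v * v = 1 := Subtype.ext (hVsq v v.2)
      rw [this, map_one]
    have hpg : IsPGroup 2 g.range := isPGroup_of_sq hgr2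
    obtain ⟨m, hm⟩ := (IsPGroup.iff_card).mp hpg
    let f' : Y →* g.range := (f.comp Y.subtype).codRestrict g.range (fun y => y.2)
    have hf's : Function.Surjective f' := by
      rintro ⟨q, hq⟩
      obtain ⟨x, hx⟩ := hgf hq
      exact ⟨⟨x, by change f x ∈ g.range; rw [hx]; exact hq⟩, Subtype.ext hx⟩
    have hf'k : ∀ y : Y, f' y = 1 ↔ ((y : X) : G) ∈ N := by
      intro y
      rw [← hfk]
      constructor
      · intro h; exact congrArg Subtype.val h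
      · intro h; exact Subtype.ext h
    have hodd : ¬ 2 ∣ Nat.card f'.ker := by
      refine odd_of_no_inv ?_
      rintro ⟨y, hy⟩ hyy
      have h1 : ((y : X) : G) * ((y : X) : G) = 1 := congrArg (fun z : f'.ker => (((z : Y) : X) : G)) hyy
      have h2 := hNX _ ((hf'k y).mp hy) (y : X).2 h1
      exact Subtype.ext (Subtype.ext (Subtype.ext h2))
    have hYc : Nat.card Y = 2 ^ m * Nat.card f'.ker := by
      rw [card_ker_mul_range f', MonoidHom.range_eq_top.mpr hf's, Subgroup.card_top, hm]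
    obtain ⟨P⟩ : Nonempty (Sylow 2 Y) := inferInstance
    have hPc : Nat.card P = 2 ^ m := by
      rw [P.card_eq_multiplicity, hYc]
      rw [Nat.factorization_mul (by positivity) (Nat.card_pos.ne')]
      rw [Finsupp.add_apply, Nat.factorization_eq_zero_of_not_dvd hodd, add_zero]
      rw [Nat.Prime.factorization_pow Nat.prime_two]
      simp
    have hPsq : ∀ y ∈ (P : Subgroup Y), y * y = 1 := by
      intro y hy
      by_contra hne
      have hyk : f' (y * y) = 1 := by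
        rw [map_mul]
        exact Subtype.ext (hgr2 _ (f' y).2)
      obtain ⟨n, hn2, hn1⟩ := exists_pow_inv P.2 (mul_mem hy hy) hne
      apply hn1
      have hz : f' ((y * y) ^ n) = 1 := by rw [map_pow, hyk, one_pow]
      have h1 : ((((y * y) ^ n : Y) : X) : G) * ((((y * y) ^ n : Y) : X) : G) = 1 :=
        congrArg (fun z : Y => ((z : X) : G)) hn2
      have h2 := hNX _ ((hf'k _).mp hz) (((y * y) ^ n : Y) : X).2 h1
      exact Subtype.ext (Subtype.ext h2)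
    rw [hm, ← hPc]
    have h1 : Nat.card (((P : Subgroup Y).map Y.subtype).map X.subtype) = Nat.card P := by
      rw [← Nat.card_congr (Subgroup.equivMapOfInjective (P : Subgroup Y) Y.subtype Y.subtype_injective).toEquiv.symm]
      exact Nat.card_congr (Subgroup.equivMapOfInjective _ X.subtype X.subtype_injective).toEquiv.symm
    rw [← h1]
    refine le_er ?_ ?_
    · rintro _ ⟨x, -, rfl⟩
      exact x.2
    · rintro _ ⟨_, ⟨y, hy, rfl⟩, rfl⟩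
      have := hPsq y hy
      exact congrArg (fun z : Y => ((z : X) : G)) this
  rw [card_ker_mul_range g, mul_comm]
  exact Nat.mul_le_mul hker hran

variable {𝓒 : Set (Set (Subgroup G))}

/-- the kernel of the action on `Λ` -/
def Nm (Λ : Set (Subgroup G)) : Subgroup G where
  carrier := {g | ∀ B ∈ Λ, cj g B = B}
  one_mem' := fun B _ => cj_one B
  mul_mem' := fun ha hb B hB => cj_mul_eq (ha B hB) (hb B hB)
  inv_mem' := fun ha B hB => cj_inv_eq (ha B hB)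

theorem Nm_le_St {Λ : Set (Subgroup G)} : Nm Λ ≤ St Λ := fun _ h => Fam.St_of_cj h

theorem fullQ [Finite G] (F : Fam3 𝓒) {Λ1 Λ2 : Set (Subgroup G)} (h1 : Λ1 ∈ 𝓒) (h2 : Λ2 ∈ 𝓒) (hne : Λ1 ≠ Λ2)
    (hadj : Adj Λ2 Λ1) {B : Subgroup G} (hB : B ∈ Λ1) {Q : Subgroup G}
    (hQ : ∀ R : Subgroup G, R ≤ Nm Λ1 ⊓ Nm Λ2 → IsPGroup 2 R → ∃ k ∈ Nm Λ1 ⊓ Nm Λ2, cj k R ≤ Q) :
    er (Q ⊓ B) = er B := by
  refine le_antisymm (er_mono inf_le_right) ?_
  rw [← adj_full F h2 h1 (Ne.symm hne) hadj hB]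
  obtain ⟨E, hE, hsE, hcE⟩ := exists_er (B ⊓ St Λ2)
  have hEN : E ≤ Nm Λ1 ⊓ Nm Λ2 := by
    intro x hx
    have hxB := hE hx
    rw [Subgroup.mem_inf] at hxB
    by_cases hx1 : x = 1
    · rw [hx1]; exact one_mem _
    refine Subgroup.mem_inf.mpr ⟨fun D hD => F.cj_mem h1 hB hD hxB.1, fun D hD => ?_⟩
    exact F.norm Λ1 h1 Λ2 h2 hne x (F.inU_of_mem h1 hB hxB.1 (hsE x hx) hx1) hxB.2 D hD
  obtain ⟨k, hk, hkE⟩ := hQ E hEN (isPGroup_of_sq hsE)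
  rw [← hcE, ← card_cj k E]
  refine le_er (le_inf hkE ?_) ?_
  · have h3 : cj k E ≤ cj k B := cj_mono (hE.trans inf_le_left)
    rw [(Subgroup.mem_inf.mp hk).1 B hB] at h3
    exact h3
  · intro y hy
    rw [mem_cj] at hy
    have := hsE _ hy
    calc y * y = k * ((k⁻¹ * y * k) * (k⁻¹ * y * k)) * k⁻¹ := by group
      _ = 1 := by rw [this]; group

theorem leSt [Finite G] (F : Fam3 𝓒) {Λ Λ1 : Set (Subgroup G)} (hΛ : Λ ∈ 𝓒) (h1 : Λ1 ∈ 𝓒)
    {A2 A3 E2 E3 : Subgroup G} (t : Two Λ A2 A3 E2 E3) (hc2 : Nat.card E2 = er A2) (hc3 : Nat.card E3 = er A3)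
    {B : Subgroup G} (hB : B ∈ Λ1) {Q : Subgroup G} (hQ : IsPGroup 2 Q) (hWQ : t.W F.toFam hΛ ≤ Q)
    (hQN : Q ≤ Nm Λ1) : Q ⊓ B ≤ St Λ := by
  by_contra hcon
  have hn : ∀ w ∈ t.W F.toFam hΛ, cj w (Q ⊓ B) = Q ⊓ B := by
    intro w hw
    have e1 : cj w Q = Q := cj_eq_of_mem (hWQ hw)
    have e2 : cj w B = B := hQN (hWQ hw) B hB
    ext x
    rw [mem_cj, Subgroup.mem_inf, Subgroup.mem_inf, ← mem_cj, ← mem_cj, e1, e2]
  have h3 := embed F hΛ h1 t (B := B) (hQ.to_le inf_le_left) hn hcon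
  have h4 : er ((Q ⊓ B) ⊓ St Λ) ≤ er B := er_mono (inf_le_left.trans inf_le_right)
  rw [hc2, hc3, F.er_eq hΛ h1 t.m1 hB, F.er_eq hΛ h1 t.m2 hB] at h3
  have h5 := F.two_le h1 hB
  nlinarith

/-- **(5)**: there are no adjacent classes. -/
theorem no_adj [Finite G] (F : Fam3 𝓒) {Λ Λ' : Set (Subgroup G)} (hΛ : Λ ∈ 𝓒) (hΛ' : Λ' ∈ 𝓒) (hne : Λ ≠ Λ') :
    ¬ Adj Λ Λ' := by
  intro h
  have h' := h.symm F hΛ hΛ' hne
  obtain ⟨L1, hL1, -⟩ := F.two Λ hΛ ⊥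
  obtain ⟨B1, hB1, -⟩ := F.two Λ' hΛ' ⊥
  obtain ⟨u, huB, hu2, hu1⟩ := exists_inv_of_er (adj_two F hΛ' hΛ (Ne.symm hne) h' hB1)
  rw [Subgroup.mem_inf] at huB
  have huU : InU Λ' u := F.inU_of_mem hΛ' hB1 huB.1 hu2 hu1
  have huL1 : cj u L1 = L1 := F.norm Λ' hΛ' Λ hΛ (Ne.symm hne) u huU huB.2 L1 hL1
  have hunc : ∃ a ∈ L1, u * a ≠ a * u := by
    by_contra hcon
    push Not at hcon
    exact hne (F.uniq Λ hΛ Λ' hΛ' u ⟨hu2, hu1, L1, hL1, hcon⟩ huU)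
  obtain ⟨l, hl, hlu, hlc⟩ := F.zst Λ hΛ L1 hL1 u hu2 huL1 hunc
  have hvU := huU.conj l
  set v := l * u * l⁻¹ with hv
  -- `e = u v`
  have he : u * v ∈ L1 := by
    have e1 : u * v = (u * l * u⁻¹) * l⁻¹ := by
      rw [hv, inv_of_sq hu2]; group
    rw [e1]
    exact mul_mem (conj_mem_of_cj huL1 hl) (inv_mem hl)
  have he2 : (u * v) * (u * v) = 1 := by
    calc (u * v) * (u * v) = u * (v * u) * v := by group
      _ = u * (u * v) * v := by rw [hlc]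
      _ = (u * u) * (v * v) := by group
      _ = 1 := by rw [hu2, hvU.1, one_mul]
  have he1 : u * v ≠ 1 := by
    intro h1
    apply hlu
    calc v = u⁻¹ * (u * v) := by group
      _ = u := by rw [h1, mul_one, inv_of_sq hu2]
  have heU : InU Λ (u * v) := F.inU_of_mem hΛ hL1 he he2 he1
  -- `Λ'' ≠ Λ'`
  have hlS : l ∉ St Λ' := by
    intro hlS
    obtain ⟨D, hD, hDB, hDB'⟩ := F.three Λ' hΛ' B1 (cj l B1)
    have hmem : cj l B1 ∈ Λ' := by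
      have h1 : cj l B1 ∈ cjs l Λ' := cj_mem_cjs hB1
      rwa [mem_St.mp hlS] at h1
    refine hne (F.uniq Λ hΛ Λ' hΛ' (u * v) heU ⟨he2, he1, D, hD, ?_⟩)
    intro a ha
    have c1 := F.comm Λ' hΛ' B1 hB1 D hD (Ne.symm hDB) u huB.1 a ha
    have c2 := F.comm Λ' hΛ' _ hmem D hD (Ne.symm hDB') v (conj_mem_cj huB.1) a ha
    calc u * v * a = u * (v * a) := by group
      _ = u * a * v := by rw [c2]; group
      _ = a * (u * v) := by rw [c1]; group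
  have hlL : l ∈ St Λ := F.mem_le_St hΛ hL1 hl
  have hΛ'' : cjs l Λ' ∈ 𝓒 := F.conj l Λ' hΛ'
  have hne' : Λ' ≠ cjs l Λ' := fun h1 => hlS (mem_St.mpr h1.symm)
  have hne'' : Λ ≠ cjs l Λ' := by
    intro h1
    apply hne
    have h2 : cjs l⁻¹ Λ = Λ := mem_St.mp (inv_mem hlL)
    calc Λ = cjs l⁻¹ Λ := h2.symm
      _ = cjs l⁻¹ (cjs l Λ') := by rw [← h1]
      _ = Λ' := cjs_inv_cjs l Λ'
  set Λ'' := cjs l Λ' with hΛdef
  have hadj12 : Adj Λ' Λ'' := ⟨v, hvU, F.cen hΛ' huU hlc⟩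
  have hadj21 : Adj Λ'' Λ' := hadj12.symm F hΛ' hΛ'' hne'
  -- the two other members of `Λ`
  obtain ⟨L2, hL2, hL21, -⟩ := F.three Λ hΛ L1 L1
  obtain ⟨L3, hL3, hL31, hL32⟩ := F.three Λ hΛ L1 L2
  obtain ⟨E2, hE2, hs2, hc2⟩ := exists_er (L2 ⊓ St Λ')
  obtain ⟨E3, hE3, hs3, hc3⟩ := exists_er (L3 ⊓ St Λ')
  rw [adj_full F hΛ' hΛ (Ne.symm hne) h' hL2] at hc2
  rw [adj_full F hΛ' hΛ (Ne.symm hne) h' hL3] at hc3
  have t0 : Two Λ L2 L3 E2 E3 := ⟨hL2, hL3, Ne.symm hL32, hE2.trans inf_le_left, hE3.trans inf_le_left, hs2, hs3⟩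
  set W0 := t0.W F.toFam hΛ with hW0
  have hW0S : W0 ≤ St Λ' := mulSub_le (hE2.trans inf_le_right) (hE3.trans inf_le_right)
  have hW0l : ∀ w ∈ W0, w * l = l * w := by
    rintro _ ⟨p, hp, q, hq, rfl⟩
    have c1 := F.comm Λ hΛ L2 hL2 L1 hL1 hL21 p (t0.le1 hp) l hl
    have c2 := F.comm Λ hΛ L3 hL3 L1 hL1 hL31 q (t0.le2 hq) l hl
    calc p * q * l = p * (q * l) := by group
      _ = p * l * q := by rw [c2]; group
      _ = l * (p * q) := by rw [c1]; group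
  have hW0N' : W0 ≤ Nm Λ' := by
    intro w hw B hB
    by_cases hw1 : w = 1
    · rw [hw1, cj_one]
    · exact F.norm Λ hΛ Λ' hΛ' hne w (t0.inU F hΛ hw hw1) (hW0S hw) B hB
  have hW0N'' : W0 ≤ Nm Λ'' := by
    intro w hw B hB
    obtain ⟨D, hD, rfl⟩ := hB
    rw [← cj_mul, hW0l w hw, cj_mul, hW0N' hw D hD]
  obtain ⟨Q, hQN, hQ, hWQ, hQc⟩ := exists_syl (K := Nm Λ' ⊓ Nm Λ'') (isPGroup_of_sq (t0.sq F.toFam hΛ)) (le_inf hW0N' hW0N'')
  have hQc' : ∀ R : Subgroup G, R ≤ Nm Λ'' ⊓ Nm Λ' → IsPGroup 2 R → ∃ k ∈ Nm Λ'' ⊓ Nm Λ', cj k R ≤ Q := by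
    rw [inf_comm]; exact hQc
  obtain ⟨B2, hB2, hB21, -⟩ := F.three Λ' hΛ' B1 B1
  -- the elementary subgroups
  have hQS' : Q ≤ St Λ' := hQN.trans (inf_le_left.trans Nm_le_St)
  have hQS'' : Q ≤ St Λ'' := hQN.trans (inf_le_right.trans Nm_le_St)
  have key' : ∀ B ∈ Λ', ∃ E : Subgroup G, E ≤ B ∧ E ≤ Q ∧ E ≤ St Λ ∧ (∀ x ∈ E, x * x = 1) ∧ Nat.card E = er L1 := by
    intro B hB
    obtain ⟨E, hE, hsE, hcE⟩ := exists_er (Q ⊓ B)
    refine ⟨E, hE.trans inf_le_right, hE.trans inf_le_left, ?_, hsE, ?_⟩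
    · exact hE.trans (leSt F hΛ hΛ' t0 hc2 hc3 hB hQ hWQ (hQN.trans inf_le_left))
    · rw [hcE, fullQ F hΛ' hΛ'' hne' hadj21 hB hQc, F.er_eq hΛ' hΛ hB hL1]
  have key'' : ∀ B ∈ Λ'', ∃ E : Subgroup G, E ≤ B ∧ E ≤ Q ∧ E ≤ St Λ ∧ (∀ x ∈ E, x * x = 1) ∧ Nat.card E = er L1 := by
    intro B hB
    obtain ⟨E, hE, hsE, hcE⟩ := exists_er (Q ⊓ B)
    refine ⟨E, hE.trans inf_le_right, hE.trans inf_le_left, ?_, hsE, ?_⟩
    · exact hE.trans (leSt F hΛ hΛ'' t0 hc2 hc3 hB hQ hWQ (hQN.trans inf_le_right))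
    · rw [hcE, fullQ F hΛ'' hΛ' (Ne.symm hne') hadj12 hB hQc', F.er_eq hΛ'' hΛ hB hL1]
  obtain ⟨X1, hX1B, hX1Q, hX1S, hX1s, hX1c⟩ := key' B1 hB1
  obtain ⟨X2, hX2B, hX2Q, hX2S, hX2s, hX2c⟩ := key' B2 hB2
  obtain ⟨Y1, hY1B, hY1Q, hY1S, hY1s, hY1c⟩ := key'' (cj l B1) (cj_mem_cjs hB1)
  obtain ⟨Y2, hY2B, hY2Q, hY2S, hY2s, hY2c⟩ := key'' (cj l B2) (cj_mem_cjs hB2)
  have tX : Two Λ' B1 B2 X1 X2 := ⟨hB1, hB2, Ne.symm hB21, hX1B, hX2B, hX1s, hX2s⟩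
  have tY : Two Λ'' (cj l B1) (cj l B2) Y1 Y2 :=
    ⟨cj_mem_cjs hB1, cj_mem_cjs hB2, fun h1 => hB21 (cj_injective l h1).symm, hY1B, hY2B, hY1s, hY2s⟩
  have hXY : ∀ p ∈ tX.W F.toFam hΛ', ∀ w ∈ tY.W F.toFam hΛ'', p * w = w * p := by
    have hgen : ∀ B ∈ Λ', ∀ D ∈ Λ'', ∀ y ∈ B, y * y = 1 → y ∈ Q → ∀ r ∈ D, r * r = 1 → r ∈ Q → y * r = r * y := by
      intro B hB D hD y hy hy2 hyQ r hr hr2 hrQ
      exact comm_two F hΛ' hΛ'' hne' hB hD hQ hy hy2 hyQ (hQS'' hyQ) hr hr2 hrQ (hQS' hrQ)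
    rintro _ ⟨p1, hp1, p2, hp2, rfl⟩ _ ⟨w1, hw1, w2, hw2, rfl⟩
    have c11 := hgen B1 hB1 _ tY.m1 p1 (hX1B hp1) (hX1s _ hp1) (hX1Q hp1) w1 (hY1B hw1) (hY1s _ hw1) (hY1Q hw1)
    have c12 := hgen B1 hB1 _ tY.m2 p1 (hX1B hp1) (hX1s _ hp1) (hX1Q hp1) w2 (hY2B hw2) (hY2s _ hw2) (hY2Q hw2)
    have c21 := hgen B2 hB2 _ tY.m1 p2 (hX2B hp2) (hX2s _ hp2) (hX2Q hp2) w1 (hY1B hw1) (hY1s _ hw1) (hY1Q hw1)
    have c22 := hgen B2 hB2 _ tY.m2 p2 (hX2B hp2) (hX2s _ hp2) (hX2Q hp2) w2 (hY2B hw2) (hY2s _ hw2) (hY2Q hw2)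
    calc p1 * p2 * (w1 * w2) = p1 * (p2 * w1) * w2 := by group
      _ = p1 * (w1 * p2) * w2 := by rw [c21]
      _ = (p1 * w1) * (p2 * w2) := by group
      _ = (w1 * p1) * (w2 * p2) := by rw [c11, c22]
      _ = w1 * (p1 * w2) * p2 := by group
      _ = w1 * (w2 * p1) * p2 := by rw [c12]
      _ = _ := by group
  have hXYi : ∀ x, x ∈ tX.W F.toFam hΛ' → x ∈ tY.W F.toFam hΛ'' → x = 1 := by
    intro x hx hy
    by_contra hx1
    exact hne' (F.uniq Λ' hΛ' Λ'' hΛ'' x (tX.inU F hΛ' hx hx1) (tY.inU F hΛ'' hy hx1))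
  set V := mulSub (tX.W F.toFam hΛ') (tY.W F.toFam hΛ'') (comm_cj hXY) with hVdef
  have hVc : Nat.card V = (er L1 * er L1) * (er L1 * er L1) := by
    rw [hVdef, card_mulSub hXYi, tX.card F.toFam hΛ', tY.card F.toFam hΛ'', hX1c, hX2c, hY1c, hY2c]
  have hVs : ∀ x ∈ V, x * x = 1 := sq_mulSub hXY (tX.sq F.toFam hΛ') (tY.sq F.toFam hΛ'')
  -- the subgroup `A`
  set A : Subgroup G := Subgroup.closure {x | x * x = 1 ∧ x ∈ St Λ ∧ (x ∈ B1 ∨ x ∈ B2)} with hAdef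
  have hAmem : ∀ x, x * x = 1 → x ∈ St Λ → (x ∈ B1 ∨ x ∈ B2) → x ∈ A := fun x h1 h2 h3 =>
    Subgroup.subset_closure ⟨h1, h2, h3⟩
  have hcomm12 : ∀ p ∈ B1, ∀ w ∈ B2, p * w = w * p := fun p hp w hw => F.comm Λ' hΛ' B1 hB1 B2 hB2 (Ne.symm hB21) p hp w hw
  have hAB : A ≤ mulSub B1 B2 (comm_cj hcomm12) := by
    rw [hAdef, Subgroup.closure_le]
    rintro x ⟨-, -, hx | hx⟩
    · exact le_mulSub_left hx
    · exact le_mulSub_right hx
  have hAL : A ≤ Subgroup.normalizer (L1 : Set G) := by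
    rw [hAdef, Subgroup.closure_le]
    rintro x ⟨hx2, hxS, hx⟩
    apply mem_normalizer_of_cj
    by_cases hx1 : x = 1
    · rw [hx1, cj_one]
    have hxU : InU Λ' x := by
      rcases hx with hx | hx
      · exact F.inU_of_mem hΛ' hB1 hx hx2 hx1
      · exact F.inU_of_mem hΛ' hB2 hx hx2 hx1
    exact F.norm Λ' hΛ' Λ hΛ (Ne.symm hne) x hxU hxS L1 hL1
  have hAL' : ∀ a ∈ A, cj a L1 = L1 := fun a ha => cj_of_mem_normalizer (hAL ha)
  have hLA : ∀ c, c ∈ L1 → c ∈ A → c * c = 1 → c = 1 := by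
    intro c hcL hcA hc2'
    by_contra hc1
    obtain ⟨D, hD, hD1, hD2⟩ := F.three Λ' hΛ' B1 B2
    refine hne (F.uniq Λ hΛ Λ' hΛ' c (F.inU_of_mem hΛ hL1 hcL hc2' hc1) ⟨hc2', hc1, D, hD, ?_⟩)
    obtain ⟨p, hp, q, hq, rfl⟩ := hAB hcA
    intro a ha
    have c1 := F.comm Λ' hΛ' B1 hB1 D hD (Ne.symm hD1) p hp a ha
    have c2 := F.comm Λ' hΛ' B2 hB2 D hD (Ne.symm hD2) q hq a ha
    calc p * q * a = p * (q * a) := by group
      _ = p * a * q := by rw [c2]; group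
      _ = a * (p * q) := by rw [c1]; group
  have hXA : tX.W F.toFam hΛ' ≤ A := by
    refine mulSub_le ?_ ?_
    · intro x hx; exact hAmem x (hX1s x hx) (hX1S hx) (Or.inl (hX1B hx))
    · intro x hx; exact hAmem x (hX2s x hx) (hX2S hx) (Or.inr (hX2B hx))
  have hlinv : ∀ w, w ∈ St Λ → l⁻¹ * w * l ∈ St Λ := fun w hw => mul_mem (mul_mem (inv_mem hlL) hw) hlL
  have hsqc : ∀ w : G, w * w = 1 → (l⁻¹ * w * l) * (l⁻¹ * w * l) = 1 := by
    intro w hw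
    calc (l⁻¹ * w * l) * (l⁻¹ * w * l) = l⁻¹ * (w * w) * l := by group
      _ = 1 := by rw [hw]; group
  have hYA : ∀ w ∈ tY.W F.toFam hΛ'', ∃ n ∈ L1, ∃ a ∈ A, w = n * a := by
    intro w hw
    have ha : l⁻¹ * w * l ∈ A := by
      obtain ⟨w1, hw1, w2, hw2, rfl⟩ := hw
      have e : l⁻¹ * (w1 * w2) * l = (l⁻¹ * w1 * l) * (l⁻¹ * w2 * l) := by group
      rw [e]
      refine mul_mem ?_ ?_
      · exact hAmem _ (hsqc _ (hY1s _ hw1)) (hlinv _ (hY1S hw1)) (Or.inl (mem_cj.mp (hY1B hw1)))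
      · exact hAmem _ (hsqc _ (hY2s _ hw2)) (hlinv _ (hY2S hw2)) (Or.inr (mem_cj.mp (hY2B hw2)))
    refine ⟨l * ((l⁻¹ * w * l) * l⁻¹ * (l⁻¹ * w * l)⁻¹), mul_mem hl (conj_mem_of_cj (hAL' _ ha) (inv_mem hl)),
      _, ha, ?_⟩
    group
  have hVA : ∀ v ∈ V, ∃ n ∈ L1, ∃ a ∈ A, v = n * a := by
    rintro _ ⟨x, hx, w, hw, rfl⟩
    obtain ⟨n, hn, a, ha, rfl⟩ := hYA w hw
    refine ⟨x * n * x⁻¹, conj_mem_of_cj (hAL' x (hXA hx)) hn, x * a, mul_mem (hXA hx) ha, ?_⟩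
    group
  have f1 := lift_er hVs hAL' hVA hLA
  have f2 : er A ≤ er L1 * er L1 := by
    obtain ⟨E, hE, hsE, hcE⟩ := exists_er A
    have f3 := lift_er (V := E) (N := B2) (X := B1) hsE (fun x hx => F.cj_mem hΛ' hB1 hB2 hx) (by
      intro v hv
      obtain ⟨p, hp, q, hq, e⟩ := hAB (hE hv)
      exact ⟨q, hq, p, hp, by rw [e, hcomm12 p hp q hq]⟩)
      (fun c h1 h2 h3 => F.inter_same hΛ' hB2 hB1 hB21 h1 h2 h3)
    rw [hcE, F.er_eq hΛ' hΛ hB2 hL1, F.er_eq hΛ' hΛ hB1 hL1] at f3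
    exact f3
  rw [hVc] at f1
  have f4 := F.two_le hΛ hL1
  have f5 : er L1 * er A ≤ er L1 * (er L1 * er L1) := Nat.mul_le_mul_left _ f2
  have f6 : er L1 * er L1 * (er L1 * er L1) ≤ er L1 * (er L1 * er L1) := f1.trans f5
  have f7 : 0 < er L1 * (er L1 * er L1) := by positivity
  nlinarith

end Cfsg.Agent.OddHalf.D3.ThreeEnd
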